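import Cfsg.Agent.J3.Syl
import Cfsg.Agent.H85.SecRank

/-! The case `q = 4` (section Four of notes/J3.md). -/

set_option autoImplicit false
set_option linter.unusedSectionVars false

namespace Cfsg.Agent.J3

open Cfsg Cfsg.Agent.H49 Cfsg.Agent.GOLD Cfsg.Agent.R2 Subgroup

universe u v

variable {G : Type u} [Group G] [Finite G] {F : Type v} [Field F] [Finite F]
  {L M J A B : Subgroup G} {x y β : G → F}

namespace Four

theorem mul_mem_of_le_two {N E : Subgroup G} (h : N.relIndex E ≤ 2) {r r' : G} (hr : r ∈ E)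
    (hr' : r' ∈ E) (n : r ∉ N) (n' : r' ∉ N) : r * r' ∈ N := by
  have h1 := relIndex_pos N E
  have h2 : N.relIndex E ≠ 1 := fun e => n (relIndex_eq_one.1 e hr)
  have h3 : (N.subgroupOf E).index = 2 := by
    change N.relIndex E = 2
    omega
  exact (mul_mem_iff_of_index_two h3 (a := ⟨r, hr⟩) (b := ⟨r', hr'⟩)).2 (iff_of_false n n')

theorem rel2 (h : Hs J A B x y β) (h4 : Nat.card F = 4) {W : Subgroup G} (hA : A ≤ W)
    (hW : W < J) : A.relIndex W ≤ 2 := by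
  have c := two_mul_card_le hW
  rw [← card_mul_relIndex hA, h.card_A, h.card_J, h4] at c
  omega

theorem onto (h : Hs J A B x y β) (h4 : Nat.card F = 4) {K : Subgroup G} (hK : K ≤ J)
    (h2 : 2 < A.relIndex K) (t : F) : ∃ s ∈ K, β s = t := by
  have e : K ⊔ A = J := by
    by_contra ne
    have := rel2 h h4 le_sup_right (lt_of_le_of_ne (sup_le hK h.two.A_le) ne)
    have := relIndex_le_of_le_right (H := A) (le_sup_left : K ≤ K ⊔ A) index_ne_zero_of_finite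
    omega
  obtain ⟨b, hb, rfl⟩ := h.b_surj t
  obtain ⟨s, hs, a, ha, rfl⟩ := (mem_sup_of_norm_right (hK.trans h.two.norm_A)).1
    (e ▸ h.two.B_le hb : b ∈ K ⊔ A)
  exact ⟨s, hs, by rw [h.b_mul s (hK hs) a (h.two.A_le ha), (h.b_zero a (h.two.A_le ha)).2 ha,
    add_zero]⟩

theorem rel_le4 (h : Hs J A B x y β) (h4 : Nat.card F = 4) {K : Subgroup G} (hK : K ≤ J) :
    A.relIndex K ≤ 4 := by
  rw [← h4, ← h.relIndex_A]
  exact relIndex_le_of_le_right hK index_ne_zero_of_finite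

/-- (a) -/
theorem Z_le (h : Hs J A B x y β) (h4 : Nat.card F = 4) {K N : Subgroup G} (hK : K ≤ J)
    (hN : ∀ s ∈ K, ∀ t ∈ K, s * t * s⁻¹ * t⁻¹ ∈ N) (hw : 4 < (A ⊓ B).relIndex K) : A ⊓ B ≤ N := by
  intro z hz
  have e := relIndex_inf_mul_relIndex B A K
  rw [inf_comm B A] at e
  have i1 := rel_le4 h h4 hK
  have i2 := rel_le4 h.symm h4 (K := A ⊓ K) (inf_le_right.trans hK)
  obtain ⟨s, hs, a, ha, e'⟩ : ∃ s ∈ K, ∃ a ∈ A ⊓ K, β s * y a = x z := by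
    by_cases h2 : 2 < A.relIndex K
    · obtain ⟨a, ha, ha'⟩ := SetLike.not_le_iff_exists.1 (show ¬ A ⊓ K ≤ B from fun m => by
        rw [relIndex_eq_one.2 m] at e; omega)
      have y0 : y a ≠ 0 := fun m => ha' ((h.y_zero a (hK ha.2)).1 m)
      obtain ⟨s, hs, e'⟩ := onto h h4 hK h2 (x z / y a)
      exact ⟨s, hs, a, ha, by rw [e', div_mul_cancel₀ _ y0]⟩
    · obtain ⟨s, hs, hs'⟩ := SetLike.not_le_iff_exists.1 (show ¬ K ≤ A from fun m => by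
        rw [relIndex_eq_one.2 m] at e; omega)
      have b0 : β s ≠ 0 := fun m => hs' ((h.b_zero s (hK hs)).1 m)
      obtain ⟨a, ha, e'⟩ := onto h.symm h4 (K := A ⊓ K) (inf_le_right.trans hK) (by
        by_contra m
        have := Nat.mul_le_mul (not_lt.1 m) (not_lt.1 h2)
        omega) (x z / β s)
      exact ⟨s, hs, a, ha, by rw [e', mul_div_cancel₀ _ b0]⟩
  have := h.x_inj (h.two.comm_mem (hK hs) (hK ha.2)) hz (by
    rw [h.comm s (hK hs) a (hK ha.2), (h.b_zero a (hK ha.2)).2 ha.1, mul_zero, add_zero, e'])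
  exact this ▸ hN s hs a ha.2

/-- The section `H / N` inside a 2-subgroup of `N(J)`. -/
structure Sec (H N J : Subgroup G) : Prop where
  p : IsPGroup 2 H
  n : H ≤ 𝒩(J)
  le : N ≤ H
  comm : ∀ s ∈ H, ∀ t ∈ H, s * t * s⁻¹ * t⁻¹ ∈ N
  sq : ∀ s ∈ H, s * s ∈ N

variable {H N : Subgroup G}

theorem Sec.cnt (c : Sec H N J) (Z : Subgroup G) :
    N.relIndex (J ⊓ H) * (Nat.card ↥(Z ⊓ (N ⊓ (J ⊓ H))) * Z.relIndex (N ⊓ (J ⊓ H))) =
      Nat.card ↥(Z ⊓ (J ⊓ H)) * Z.relIndex (J ⊓ H) := by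
  rw [card_inf_mul_relIndex, card_inf_mul_relIndex, mul_comm, card_inf_mul_relIndex]

theorem Sec.cm (c : Sec H N J) {d s : G} (hd : d ∈ H) (hs : s ∈ J ⊓ H) :
    d * s * d⁻¹ * s⁻¹ ∈ N ⊓ (J ⊓ H) :=
  ⟨c.comm d hd s hs.2, J.mul_mem (conj_mem_of_norm c.n hd hs.1) (J.inv_mem hs.1),
    c.le (c.comm d hd s hs.2)⟩

/-- The case `w > 4`. -/
theorem big (h : Hs J A B x y β) (h4 : Nat.card F = 4) (c : Sec H N J)
    (hw : 4 < (A ⊓ B).relIndex (J ⊓ H)) :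
    N.relIndex (J ⊓ H) * (A ⊓ B).relIndex (N ⊓ (J ⊓ H)) = (A ⊓ B).relIndex (J ⊓ H) ∧
      ((A ⊓ B).relIndex (J ⊓ H) ≤ 8 ∨ (J ≤ H ∧ (A ⊓ B).relIndex (J ⊓ H) = 16)) := by
  have hN : A ⊓ B ≤ N := Z_le h h4 inf_le_left (fun s hs t ht => c.comm s hs.2 t ht.2) hw
  have hK : A ⊓ B ≤ J ⊓ H := le_inf (inf_le_left.trans h.two.A_le) (hN.trans c.le)
  have e := c.cnt (A ⊓ B)
  rw [inf_eq_left.2 hK, inf_eq_left.2 (le_inf hN hK), h.card_Z, h4] at e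
  have e2 := card_mul_relIndex hK
  rw [h.card_Z, h4] at e2
  refine ⟨by rw [mul_left_comm] at e; omega, ?_⟩
  by_cases hJ : J ≤ H
  · rw [inf_eq_left.2 hJ, h.card_J, h4] at e2
    exact Or.inr ⟨hJ, by rw [inf_eq_left.2 hJ]; omega⟩
  · have := two_mul_card_le (lt_of_le_of_ne (inf_le_left : J ⊓ H ≤ J)
      fun e => hJ (e ▸ inf_le_right))
    rw [h.card_J, h4] at this
    exact Or.inl (by omega)

theorem card_Z_le (h : Hs J A B x y β) (h4 : Nat.card F = 4) (K : Subgroup G) :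
    Nat.card ↥(A ⊓ B ⊓ K) ≤ 4 := by
  rw [← h4, ← h.card_Z]; exact card_le_of_le inf_le_left

theorem le16 (h : Hs J A B x y β) (h4 : Nat.card F = 4) (c : Sec H N J) :
    N.relIndex (J ⊓ H) ≤ 16 := by
  by_cases hw : 4 < (A ⊓ B).relIndex (J ⊓ H)
  · obtain ⟨e, e'⟩ := big h h4 c hw
    have := Nat.le_mul_of_pos_right (N.relIndex (J ⊓ H)) (relIndex_pos (A ⊓ B) (N ⊓ (J ⊓ H)))
    omega
  · have e := c.cnt (A ⊓ B)
    have := Nat.mul_le_mul (card_Z_le h h4 (J ⊓ H)) (not_lt.1 hw)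
    have := Nat.le_mul_of_pos_right (N.relIndex (J ⊓ H))
      (Nat.mul_pos (card_pos' (A ⊓ B ⊓ (N ⊓ (J ⊓ H)))) (relIndex_pos (A ⊓ B) (N ⊓ (J ⊓ H))))
    omega

theorem card_le8 (h : Cf L M J A B x y β) (h4 : Nat.card F = 4) {K : Subgroup G} {d : G}
    (hd : d ∉ J) (hc : d ∈ 𝒞(K)) (hA : K ≤ A) : Nat.card K ≤ 8 := by
  have := two_mul_card_le (lt_of_le_of_ne hA fun e => hd (h.hs.two.A_le (h.cA (e ▸ hc))))
  rw [h.hs.card_A, h4] at this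
  omega

theorem le8 (h : Cf L M J A B x y β) (h4 : Nat.card F = 4) (c : Sec H N J) {d : G} (hd : d ∈ H)
    (hdJ : d ∉ J) : N.relIndex (J ⊓ H) ≤ 8 := by
  by_cases hw : 4 < (A ⊓ B).relIndex (J ⊓ H)
  · obtain ⟨e, e'⟩ := big h.hs h4 c hw
    have p := relIndex_pos (A ⊓ B) (N ⊓ (J ⊓ H))
    rcases e' with e' | ⟨hJ, e'⟩
    · have := Nat.le_mul_of_pos_right (N.relIndex (J ⊓ H)) p
      omega
    · obtain ⟨s, hs, hs'⟩ : ∃ s ∈ J, d * s * d⁻¹ * s⁻¹ ∉ A := by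
        by_cases nA : d ∈ 𝒩(A)
        · obtain ⟨s, hs, hs'⟩ := h.hs.moveB1 nA (c.n hd) (e2_of_mem c.p hd)
            fun m => hdJ (h.mem_J nA (c.n hd) (e2_of_mem c.p hd) m)
          exact ⟨s, h.hs.two.B_le hs, hs'⟩
        · obtain ⟨a, ha, ha'⟩ := SetLike.not_le_iff_exists.1 h.hs.two.nAB
          refine ⟨a, h.hs.two.A_le ha, fun m => ha' ?_⟩
          have := A.mul_mem m ha
          rwa [inv_mul_cancel_right, ← (h.hs.swap (c.n hd) nA).2, conj_mem_cj] at this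
      have : (A ⊓ B).relIndex (N ⊓ (J ⊓ H)) ≠ 1 := fun m =>
        hs' (relIndex_eq_one.1 m (c.cm hd ⟨hs, hJ hs⟩)).1
      have := Nat.mul_le_mul_left (N.relIndex (J ⊓ H))
        (show 2 ≤ (A ⊓ B).relIndex (N ⊓ (J ⊓ H)) by omega)
      omega
  · have e := card_inf_mul_relIndex N (J ⊓ H)
    by_cases hb : N ⊓ (J ⊓ H) = ⊥
    · rw [hb, card_bot, one_mul] at e
      have hc : d ∈ 𝒞(J ⊓ H) := fun s hs => by
        have := c.cm hd hs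
        rw [hb, mem_bot, mul_inv_eq_one, mul_inv_eq_iff_eq_mul] at this
        exact this.symm
      rcases h.hs.two.le_or (E := J ⊓ H) inf_le_left (fun s hs => by
        have : s * s ∈ N ⊓ (J ⊓ H) := ⟨c.sq s hs.2, mul_mem hs hs⟩
        rwa [hb, mem_bot] at this) with m | m
      · exact e ▸ card_le8 h h4 hdJ hc m
      · exact e ▸ card_le8 h.symm h4 hdJ hc m
    · have := Nat.mul_le_mul_right (N.relIndex (J ⊓ H)) (one_lt_card_iff_ne_bot _ |>.2 hb)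
      have e2 := card_inf_mul_relIndex (A ⊓ B) (J ⊓ H)
      have := Nat.mul_le_mul (card_Z_le h.hs h4 (J ⊓ H)) (not_lt.1 hw)
      omega

theorem le4 (h : Cf L M J A B x y β) (h4 : Nat.card F = 4) (c : Sec H N J) {τ d : G} (hτ : τ ∈ H)
    (τA : τ ∉ 𝒩(A)) (τZ : τ ∈ 𝒞(A ⊓ B)) (hd : d ∈ H) (dA : d ∈ 𝒩(A)) (dZ : d ∉ 𝒞(A ⊓ B)) :
    N.relIndex (J ⊓ H) ≤ 4 := by
  have e := c.cnt (A ⊓ B)
  have p1 := relIndex_pos (A ⊓ B) (N ⊓ (J ⊓ H))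
  have p2 := card_pos' (A ⊓ B ⊓ (N ⊓ (J ⊓ H)))
  -- `m₁ ≤ 2`
  have m1 : Nat.card ↥(A ⊓ B ⊓ (J ⊓ H)) ≤ 2 * Nat.card ↥(A ⊓ B ⊓ (N ⊓ (J ⊓ H))) := by
    by_cases hZ : A ⊓ B ≤ J ⊓ H
    · have := card_Z_le h.hs h4 (J ⊓ H)
      have : 1 < Nat.card ↥(A ⊓ B ⊓ (N ⊓ (J ⊓ H))) := by
        refine (one_lt_card_iff_ne_bot _).2 fun hb => dZ fun z hz => ?_
        have : d * z * d⁻¹ * z⁻¹ ∈ A ⊓ B ⊓ (N ⊓ (J ⊓ H)) :=
          ⟨Subgroup.mul_mem _ (conj_mem_of_norm (c.n.trans h.hs.normJ_Z) hd hz)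
            (Subgroup.inv_mem _ hz), c.cm hd (hZ hz)⟩
        rw [hb, mem_bot, mul_inv_eq_one, mul_inv_eq_iff_eq_mul] at this
        exact this.symm
      omega
    · have := two_mul_card_le (lt_of_le_of_ne (inf_le_left : A ⊓ B ⊓ (J ⊓ H) ≤ A ⊓ B)
        fun e => hZ (e ▸ inf_le_right))
      rw [h.hs.card_Z, h4] at this
      omega
  have m2 : N.relIndex (J ⊓ H) * (A ⊓ B).relIndex (N ⊓ (J ⊓ H)) ≤
      2 * (A ⊓ B).relIndex (J ⊓ H) := by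
    refine Nat.le_of_mul_le_mul_left ?_ p2
    calc _ = _ := by rw [mul_left_comm]; exact e
      _ ≤ 2 * Nat.card ↥(A ⊓ B ⊓ (N ⊓ (J ⊓ H))) * (A ⊓ B).relIndex (J ⊓ H) :=
        Nat.mul_le_mul_right _ m1
      _ = _ := by ring
  by_cases hw2 : (A ⊓ B).relIndex (J ⊓ H) ≤ 2
  · have := Nat.le_mul_of_pos_right (N.relIndex (J ⊓ H)) p1
    omega
  obtain ⟨-, k, hk, hl⟩ := h.swap_line (c.n hτ) τA (e2_of_mem c.p hτ) τZ
  have yc : ∀ s ∈ J, y (τ * s * τ⁻¹ * s⁻¹) = k * β s + y s := fun s hs => by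
    rw [h.hs.y_mul _ (conj_mem_of_norm c.n hτ hs) _ (J.inv_mem hs), h.hs.y_inv hs, (hl s hs).1]
  have w2 : 2 ≤ (A ⊓ B).relIndex (N ⊓ (J ⊓ H)) := by
    by_contra hlt
    have hle : N ⊓ (J ⊓ H) ≤ A ⊓ B := relIndex_eq_one.1 (by omega)
    let W : Subgroup G :=
      { carrier := {s | s ∈ J ∧ d * s * d⁻¹ * s⁻¹ ∈ A}
        one_mem' := ⟨J.one_mem, by simp⟩
        mul_mem' := fun {s t} hs ht => ⟨J.mul_mem hs.1 ht.1, by
          have := A.mul_mem hs.2 (conj_mem_of_norm h.hs.two.norm_A hs.1 ht.2)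
          rwa [show d * s * d⁻¹ * s⁻¹ * (s * (d * t * d⁻¹ * t⁻¹) * s⁻¹) =
            d * (s * t) * d⁻¹ * (s * t)⁻¹ by group] at this⟩
        inv_mem' := fun {s} hs => ⟨J.inv_mem hs.1, by
          have := conj_mem_of_norm' h.hs.two.norm_A hs.1 (A.inv_mem hs.2)
          rwa [show s⁻¹ * (d * s * d⁻¹ * s⁻¹)⁻¹ * s = d * s⁻¹ * d⁻¹ * s⁻¹⁻¹ by group] at this⟩ }
    have i2 : A.relIndex W ≤ 2 := by
      obtain ⟨s, hs, hs'⟩ := h.hs.moveB1 dA (c.n hd) (e2_of_mem c.p hd) dZ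
      exact rel2 h.hs h4 (fun a ha => ⟨h.hs.two.A_le ha,
        A.mul_mem (conj_mem_of_norm le_rfl dA ha) (A.inv_mem ha)⟩)
        (lt_of_le_of_ne (fun s hs => hs.1) fun e => hs' (e ▸ h.hs.two.B_le hs : s ∈ W).2)
    have zA : ∀ s ∈ J ⊓ H, s ∈ A → s ∈ A ⊓ B := fun s hs hA => by
      have := (h.hs.y_zero _ (c.cm hτ hs).2.1).2 (hle (c.cm hτ hs)).2
      rw [yc s hs.1, (h.hs.b_zero s hs.1).2 hA, mul_zero, zero_add] at this
      exact ⟨hA, (h.hs.y_zero s hs.1).1 this⟩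
    exact hw2 (relIndex_le_two fun s hs t ht n n' => zA _ (mul_mem hs ht)
      (mul_mem_of_le_two i2 ⟨hs.1, (hle (c.cm hd hs)).1⟩ ⟨ht.1, (hle (c.cm hd ht)).1⟩
        (fun m => n (zA s hs m)) fun m => n' (zA t ht m)))
  have := Nat.mul_le_mul_left (N.relIndex (J ⊓ H)) w2
  by_cases hw : 4 < (A ⊓ B).relIndex (J ⊓ H)
  swap
  · omega
  obtain ⟨e1, e'⟩ := big h.hs h4 c hw
  rcases e' with e' | ⟨hJ, e'⟩
  · omega
  have w4 : 4 ≤ (A ⊓ B).relIndex (N ⊓ (J ⊓ H)) := by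
    have sup : J ≤ N ⊓ (J ⊓ H) ⊔ B := fun s hs => by
      obtain ⟨a, ha, ea⟩ := h.hs.y_surj (y s)
      have aJ := h.hs.two.A_le ha
      have r := c.cm hτ ⟨aJ, hJ aJ⟩
      have : (τ * a * τ⁻¹ * a⁻¹)⁻¹ * s ∈ B := by
        rw [← h.hs.y_zero _ (J.mul_mem (J.inv_mem r.2.1) hs), h.hs.y_mul _ (J.inv_mem r.2.1) _ hs,
          h.hs.y_inv r.2.1, yc a aJ, (h.hs.b_zero a aJ).2 ha, mul_zero, zero_add, ea,
          h.hs.add_self]
      have := mul_mem (mem_sup_left r) (mem_sup_right (S := N ⊓ (J ⊓ H)) this)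
      rwa [mul_inv_cancel_left] at this
    have hp : IsProd (N ⊓ (J ⊓ H)) B J :=
      ⟨fun s hs => hs.2.1, h.hs.two.B_le, fun s hs => (mem_sup_of_norm_right
        ((inf_le_right.trans inf_le_left).trans h.hs.two.symm.norm_A)).1 (sup hs)⟩
    rw [← h4, ← h.hs.symm.relIndex_A, ← hp.relIndex_eq]
    exact relIndex_le_of_le_left inf_le_right index_ne_zero_of_finite
  have := Nat.mul_le_mul_left (N.relIndex (J ⊓ H)) w4
  omega

theorem main (h : Cf L M J A B x y β) (h4 : Nat.card F = 4) (c : Sec H N J) :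
    N.relIndex H ≤ 16 := by
  have e : N.relIndex H ≤ N.relIndex (J ⊓ H) * J.relIndex H :=
    (relIndex_le_of_le_left inf_le_left index_ne_zero_of_finite).trans
      (relIndex_inf_mul_relIndex N J H).ge
  have key : ∀ r ∈ H, r ∈ 𝒩(A) → r ∈ 𝒞(A ⊓ B) → r ∈ J := fun r hr n z =>
    h.mem_J n (c.n hr) (e2_of_mem c.p hr) z
  have mc : ∀ r ∈ H, ∀ r' ∈ H, r ∉ 𝒞(A ⊓ B) → r' ∉ 𝒞(A ⊓ B) → r * r' ∈ 𝒞(A ⊓ B) :=
    fun r hr r' hr' n n' => h.hs.mul_cent c.n c.p hr hr' n n'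
      (h.hs.sq_cent h4 (c.n hr) (e2_of_mem c.p hr)) (h.hs.sq_cent h4 (c.n hr') (e2_of_mem c.p hr'))
  have mn : ∀ r ∈ H, ∀ r' ∈ H, r ∉ 𝒩(A) → r' ∉ 𝒩(A) → r * r' ∈ 𝒩(A) :=
    fun r hr r' hr' n n' => h.hs.mul_norm (c.n hr) n (c.n hr') n'
  by_cases hJ : H ≤ J
  · rw [relIndex_eq_one.2 hJ, mul_one] at e
    exact e.trans (le16 h.hs h4 c)
  obtain ⟨d0, hd0, hd0'⟩ := SetLike.not_le_iff_exists.1 hJ
  have i8 := le8 h h4 c hd0 hd0'
  by_cases h1 : ∃ τ ∈ H, τ ∉ 𝒩(A) ∧ τ ∈ 𝒞(A ⊓ B)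
  swap
  · have k : ∀ r ∈ H, r ∈ 𝒞(A ⊓ B) → r ∈ J := fun r hr z =>
      key r hr (by by_contra n; exact h1 ⟨r, hr, n, z⟩) z
    exact e.trans (Nat.mul_le_mul i8 (relIndex_le_two fun r hr r' hr' n n' => k _ (mul_mem hr hr')
      (mc r hr r' hr' (fun m => n (k r hr m)) fun m => n' (k r' hr' m))))
  by_cases h2 : ∃ d ∈ H, d ∈ 𝒩(A) ∧ d ∉ 𝒞(A ⊓ B)
  swap
  · have k : ∀ r ∈ H, r ∈ 𝒩(A) → r ∈ J := fun r hr n =>
      key r hr n (by by_contra z; exact h2 ⟨r, hr, n, z⟩)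
    exact e.trans (Nat.mul_le_mul i8 (relIndex_le_two fun r hr r' hr' n n' => k _ (mul_mem hr hr')
      (mn r hr r' hr' (fun m => n (k r hr m)) fun m => n' (k r' hr' m))))
  obtain ⟨τ, hτ, τA, τZ⟩ := h1
  obtain ⟨d, hd, dA, dZ⟩ := h2
  refine e.trans (Nat.mul_le_mul (le4 h h4 c hτ τA τZ hd dA dZ) (show J.relIndex H ≤ 4 from ?_))
  have i1 := relIndex_le_two mc
  have i2 : J.relIndex (𝒞(A ⊓ B) ⊓ H) ≤ 2 := relIndex_le_two fun r hr r' hr' n n' =>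
    key _ (mul_mem hr.2 hr'.2) (mn r hr.2 r' hr'.2 (fun m => n (key r hr.2 m hr.1))
      fun m => n' (key r' hr'.2 m hr'.1)) (mul_mem hr.1 hr'.1)
  exact ((relIndex_le_of_le_left inf_le_left index_ne_zero_of_finite).trans
    (relIndex_inf_mul_relIndex J 𝒞(A ⊓ B) H).ge).trans (Nat.mul_le_mul i2 i1)

end Four

theorem Cf.four_rank (h : Cf L M J A B x y β) (h4 : Nat.card F = 4) : SectionalPRankLE 2 4 G := by
  haveI : Fact (Nat.Prime 2) := ⟨Nat.prime_two⟩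
  refine H85.sectionalPRankLE_of_forall fun H K c => ?_
  obtain ⟨R, hR⟩ := exists_sylowOf 2 H
  have := c.normal
  obtain ⟨k, hk⟩ := IsPGroup.iff_card.1 (show IsPGroup 2 (H ⧸ K.subgroupOf H) from fun x => ⟨1, by
    obtain ⟨x, rfl⟩ := QuotientGroup.mk_surjective x
    exact (QuotientGroup.eq_one_iff (x ^ 2)).2 (c.pow x x.2)⟩)
  rw [← (hR.isProd_of_index c.le (by
    rw [show K.relIndex H = _ from hk]; exact isPiNat_singleton_pow Nat.prime_two k)).relIndex_eq]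
  have pR : IsPGroup 2 R := hR.pi.isPGroup Nat.prime_two
  obtain ⟨P, hP⟩ := pR.exists_le_sylow
  obtain ⟨g, -, hg⟩ := sylowOf_subJ (sylowOf_top Nat.prime_two P) le_top
    (isPi_of_isPGroup Nat.prime_two h.hs.two.pgroup)
  rw [← inf_relIndex_right]
  exact Four.main (h.conj g) h4 ⟨pR, hP.trans ((h.conj g).le_normJ P.isPGroup' hg), inf_le_right,
    fun s hs t ht => ⟨c.comm s (hR.le hs) t (hR.le ht),
      R.mul_mem (R.mul_mem (R.mul_mem hs ht) (R.inv_mem hs)) (R.inv_mem ht)⟩,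
    fun s hs => ⟨by rw [← pow_two]; exact c.pow s (hR.le hs), R.mul_mem hs hs⟩⟩

end Cfsg.Agent.J3
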