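import Cfsg.Agent.J3.Basic
import Cfsg.Agent.R2.Vx
import Cfsg.Agent.H2.Gaschutz
import Cfsg.Agent.H50.Maschke

set_option autoImplicit false
set_option linter.unusedSectionVars false

namespace Cfsg.Agent.J3

open Cfsg Cfsg.Agent.H49 Cfsg.Agent.GOLD Cfsg.Agent.R2 Subgroup

universe u v

variable {G : Type u} [Group G] [Finite G] {F : Type v} [Field F] [Finite F]
  {L M J A B : Subgroup G} {x y β : G → F}

namespace LAff

theorem two_top (h : Hs J A B x y β) (hJ : IsSylowOf 2 J ⊤) : Two ⊤ J A B :=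
  ⟨hJ, h.two.eaA, h.two.eaB, h.two.sup, h.two.inv, h.two.nAB, h.two.nBA⟩

theorem commA (h : Hs J A B x y β) {a a' : G} (ha : a ∈ A) (ha' : a' ∈ A) : a * a' = a' * a :=
  congrArg Subtype.val (h.two.eaA.1.is_comm.comm (⟨a, ha⟩ : A) ⟨a', ha'⟩)

/-- The elements centralizing `Z` and `A / Z`. -/
def stab (A Z : Subgroup G) [hn : A.Normal] : Subgroup G where
  carrier := {g | (∀ z ∈ Z, g * z = z * g) ∧ ∀ a ∈ A, g * a * g⁻¹ * a⁻¹ ∈ Z}
  one_mem' := ⟨fun z _ => by simp, fun a _ => by simp⟩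
  mul_mem' := fun {g g'} hg hg' => ⟨fun z hz => by
      rw [mul_assoc, hg'.1 z hz, ← mul_assoc, hg.1 z hz, mul_assoc], fun a ha => by
      have h1 := hg'.2 a ha
      have e : g * g' * a * (g * g')⁻¹ * a⁻¹ =
          g * (g' * a * g'⁻¹ * a⁻¹) * g⁻¹ * (g * a * g⁻¹ * a⁻¹) := by group
      rw [e, hg.1 _ h1, mul_inv_cancel_right]
      exact Z.mul_mem h1 (hg.2 a ha)⟩
  inv_mem' := fun {g} hg => ⟨fun z hz => by
      calc g⁻¹ * z = g⁻¹ * (z * g) * g⁻¹ := by group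
        _ = z * g⁻¹ := by rw [← hg.1 z hz]; group, fun a ha => by
      have h1 := Z.inv_mem (hg.2 a ha)
      have e : g⁻¹ * a * g⁻¹⁻¹ * a⁻¹ = g⁻¹ * ((g * a * g⁻¹ * a⁻¹)⁻¹ * g) := by group
      rw [e, ← hg.1 _ h1, inv_mul_cancel_left]
      exact h1⟩

theorem J_normal (h : Hs J A B x y β) (hJ : IsSylowOf 2 J ⊤) (hn : A.Normal) (hc : 𝒞(A) ≤ A)
    (hZ : ∀ g : G, g ∈ 𝒩(A ⊓ B)) : ⊤ ≤ 𝒩(J) := by
  haveI : Fact (Nat.Prime 2) := ⟨Nat.prime_two⟩
  have h1 : J ≤ stab A (A ⊓ B) := fun s hs =>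
    ⟨fun z hz => h.two.comm_of_Z hz hs, fun a ha => h.two.comm_mem hs (h.two.A_le ha)⟩
  have pA : IsPGroup 2 A := h.two.pgroup.to_le h.two.A_le
  have h2 : IsPGroup 2 (stab A (A ⊓ B)) := by
    refine H72.isPGroup_of_forall_coprime fun g hg ho => ?_
    have hgc : g ∈ 𝒞(A) := fun a ha => by
      refine (H72.commute_of_commutator_mem (pA.to_le (inf_le_left : A ⊓ B ≤ A)) ho
        (fun z hz => (hg.1 z hz).symm) ?_).eq
      have := inv_mem (hg.2 a ha)
      rw [commutatorElement_def]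
      rwa [show (g * a * g⁻¹ * a⁻¹)⁻¹ = a * g * a⁻¹ * g⁻¹ by group] at this
    have := H72.coprime_orderOf_of_mem_isPGroup pA (hc hgc) ho
    exact orderOf_eq_one_iff.1 (by simpa using this)
  have e : J = stab A (A ⊓ B) := hJ.eq_of_le h1 le_top (isPi_of_isPGroup Nat.prime_two h2)
  rw [e]
  refine normal_iff_top_le_norm.1 ⟨fun k hk g => ⟨fun z hz => ?_, fun a ha => ?_⟩⟩
  · have := hk.1 _ (conj_mem_of_norm' le_rfl (hZ g) hz)
    calc g * k * g⁻¹ * z = g * (k * (g⁻¹ * z * g)) * g⁻¹ := by group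
      _ = z * (g * k * g⁻¹) := by rw [this]; group
  · have := conj_mem_of_norm le_rfl (hZ g) (hk.2 _ (hn.conj_mem' a ha g))
    rwa [show g * (k * (g⁻¹ * a * g) * k⁻¹ * (g⁻¹ * a * g)⁻¹) * g⁻¹ =
      g * k * g⁻¹ * a * (g * k * g⁻¹)⁻¹ * a⁻¹ by group] at this

end LAff

/-- A complement `D` to `Z` in `A` such that `G` permutes `Z` and the conjugates of `D` under `B`. -/
theorem Hs.exists_spread (h : Hs J A B x y β) (h4 : 4 ≤ Nat.card F) (hJ : IsSylowOf 2 J ⊤)
    (hn : A.Normal) (hc : 𝒞(A) ≤ A) : ∃ D : Subgroup G, A ⊓ B ⊓ D = ⊥ ∧ IsProd (A ⊓ B) D A ∧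
      (∀ g : G, cj g D = A ⊓ B ∨ ∃ b ∈ B, cj g D = cj b D) ∧
      ∀ g : G, cj g (A ⊓ B) = A ⊓ B ∨ ∃ b ∈ B, cj g (A ⊓ B) = cj b D := by
  haveI : Fact (Nat.Prime 2) := ⟨Nat.prime_two⟩
  have nA : ∀ g : G, g ∈ 𝒩(A) := fun g => normal_iff_top_le_norm.1 hn (mem_top g)
  by_cases hZ : ∀ g : G, g ∈ 𝒩(A ⊓ B)
  · have nJ := LAff.J_normal h hJ hn hc hZ
    obtain ⟨H, hH⟩ := exists_hall_compl hJ nJ
    obtain ⟨D, hDA, hHD, hD, hD'⟩ := H50.maschke (p := 2) (A := H) (U := A ⊓ B) h.two.eaA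
      (fun g _ => nA g) ((isPiNat_compl_singleton_iff_coprime Nat.prime_two).1 hH.pi) inf_le_left
      (fun g _ => hZ g)
    refine ⟨D, hD, ?_, fun g => Or.inr ?_, fun g => Or.inl (cj_eq_of_mem_norm (hZ g))⟩
    · have := isProd_sup_of_norm_left (H := A ⊓ B) (K := D) (fun g _ => hZ g)
      rwa [hD'] at this
    · obtain ⟨j, hj, k, hk, rfl⟩ := (hJ.isProd hH).2.2 g (mem_top g)
      obtain ⟨a, ha, b, hb, rfl⟩ := h.two.exists_mul hj
      refine ⟨b, hb, ?_⟩
      rw [cj_mul, cj_eq_of_mem_norm (hHD hk), cj_mul]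
      refine cj_eq_of_mem_norm (cent_le_norm _ fun d hd => ?_)
      exact LAff.commA h (cj_le_of_mem_norm hDA (nA b) hd) ha
  · push Not at hZ
    obtain ⟨w, hw⟩ := hZ
    have hh : Half (Nat.card F) J A B :=
      ⟨LAff.two_top h hJ, fun e => hw (e (nA w)), h.relIndex_A, h.symm.relIndex_A, h4⟩
    have hcr : cr A B = ⊥ := by
      have h1 := card_mul_relIndex (cr_le A B)
      rw [hh.relIndex_cr, h.card_Z] at h1
      have h0 : 0 < Nat.card F := Nat.card_pos
      exact card_eq_one.1 (by nlinarith [Nat.card_pos (α := cr A B)])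
    have key : ∀ g : G, cj g (A ⊓ B) = A ⊓ B ∨ ∃ b ∈ B, cj g (A ⊓ B) = cj b (cj w (A ⊓ B)) := by
      intro g
      by_cases hg : g ∈ 𝒩(A ⊓ B)
      · exact Or.inl (cj_eq_of_mem_norm hg)
      · obtain ⟨b, hb, e⟩ := hh.trans (nA w) hw (nA g) hg
        exact Or.inr ⟨b, hb, e.symm⟩
    refine ⟨cj w (A ⊓ B), by rw [hh.inf_cj (nA w) hw, hcr], hh.vprod (nA w) hw, fun g => ?_, key⟩
    rw [← cj_mul]
    exact key _

namespace LAff

/-- Linear dependence in `F²`. -/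
def Dep (u u' : Fin 2 → F) : Prop := u 0 * u' 1 = u 1 * u' 0

theorem Dep.exists_smul {u u' : Fin 2 → F} (h : Dep u u') (hu : u ≠ 0) : ∃ c : F, u' = c • u := by
  by_cases h0 : u 0 = 0
  · have h1 : u 1 ≠ 0 := fun e => hu (by ext i; fin_cases i <;> simp [h0, e])
    have h2 : u' 0 = 0 := by
      rw [Dep, h0, zero_mul] at h
      exact (mul_eq_zero.1 h.symm).resolve_left h1
    exact ⟨u' 1 / u 1, by ext i; fin_cases i <;> simp [h0, h1, h2]⟩
  · refine ⟨u' 0 / u 0, ?_⟩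
    ext i; fin_cases i
    · simp [h0]
    · have : u' 1 = u' 0 / u 0 * u 1 := by
        rw [Dep] at h
        field_simp
        linear_combination h
      simpa using this

theorem indep {u u' : Fin 2 → F} (h : ¬ Dep u u') {c c' : F} (e : c • u = c' • u') :
    c = 0 ∧ c' = 0 := by
  have e0 : c * u 0 = c' * u' 0 := congrFun e 0
  have e1 : c * u 1 = c' * u' 1 := congrFun e 1
  constructor
  · by_contra n
    refine h (mul_left_cancel₀ n ?_)
    linear_combination u' 1 * e0 - u' 0 * e1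
  · by_contra n
    refine h (mul_left_cancel₀ n ?_)
    linear_combination u 1 * e0 - u 0 * e1

/-- An additive bijection of `F²` preserving dependence conjugates a scalar to a scalar. -/
theorem scalar {ψ φ : (Fin 2 → F) → Fin 2 → F} (hadd : ∀ u u', ψ (u + u') = ψ u + ψ u')
    (hinv : ∀ u, φ (ψ u) = u) (h1 : ∀ u u', Dep u u' → Dep (ψ u) (ψ u'))
    (h2 : ∀ u u', Dep u u' → Dep (φ u) (φ u')) (ω : F) : ∃ c : F, ∀ u, ψ (ω • u) = c • ψ u := by
  have z : ψ 0 = 0 := by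
    have := hadd 0 0
    rw [add_zero] at this
    exact left_eq_add.1 this
  have nz : ∀ u, u ≠ 0 → ψ u ≠ 0 := fun u hu e => hu
    ((hinv u).symm.trans ((congrArg φ (e.trans z.symm)).trans (hinv 0)))
  have ex : ∀ u, u ≠ 0 → ∃ c : F, ψ (ω • u) = c • ψ u := fun u hu =>
    (h1 u (ω • u) (by simp only [Dep, Pi.smul_apply, smul_eq_mul]; ring)).exists_smul (nz u hu)
  have two : ∀ u u', ¬ Dep u u' → ∀ c c' : F, ψ (ω • u) = c • ψ u → ψ (ω • u') = c' • ψ u' →
      c = c' := by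
    intro u u' hd c c' e e'
    have hs : u + u' ≠ 0 := fun e0 => hd (by
      have a0 : u 0 + u' 0 = 0 := congrFun e0 0
      have a1 : u 1 + u' 1 = 0 := congrFun e0 1
      rw [Dep]
      linear_combination u 0 * a1 - u 1 * a0)
    obtain ⟨d, ed⟩ := ex _ hs
    rw [smul_add, hadd, hadd, e, e'] at ed
    have hd' : ¬ Dep (ψ u) (ψ u') := fun n => hd (by simpa only [hinv] using h2 _ _ n)
    have := indep hd' (c := c - d) (c' := d - c') (by
      rw [sub_smul, sub_smul, sub_eq_sub_iff_add_eq_add, ed, smul_add, add_comm])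
    linear_combination this.1 + this.2
  obtain ⟨c, ec⟩ := ex ![1, 0] (by simp)
  obtain ⟨c', ec'⟩ := ex ![0, 1] (by simp)
  have cc : c = c' := two _ _ (by simp [Dep]) _ _ ec ec'
  refine ⟨c, fun u => ?_⟩
  by_cases hu : u = 0
  · rw [hu, smul_zero, z, smul_zero]
  obtain ⟨d, ed⟩ := ex u hu
  by_cases n : u 1 = 0
  · have n0 : u 0 ≠ 0 := fun e => hu (by ext i; fin_cases i <;> simp [n, e])
    rw [ed, cc, two u ![0, 1] (by simp [Dep, n0]) _ _ ed ec']
  · rw [ed, two u ![1, 0] (by simpa [Dep] using Ne.symm n) _ _ ed ec]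

theorem four {F : Type v} [Field F] [Fintype F] (h4 : Fintype.card F = 4)
    (h2 : ∀ t : F, t + t = 0) : ∃ ω : F, ω ≠ 0 ∧ ω ≠ 1 ∧ ∀ t : F, t = 0 ∨ t = 1 ∨ t = ω ∨ t = ω + 1 := by
  classical
  obtain ⟨ω, -, hc⟩ := Finset.exists_mem_notMem_of_card_lt_card
    (s := ({0, 1} : Finset F)) (t := Finset.univ)
    (lt_of_le_of_lt Finset.card_le_two (by rw [Finset.card_univ]; omega))
  simp only [Finset.mem_insert, Finset.mem_singleton, not_or] at hc
  refine ⟨ω, hc.1, hc.2, fun t => ?_⟩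
  have n1 : (0 : F) ≠ ω + 1 := fun e => hc.2 (by linear_combination -e - h2 1)
  have n2 : (1 : F) ≠ ω + 1 := fun e => hc.1 (by linear_combination -e)
  have n3 : ω ≠ ω + 1 := fun e => one_ne_zero (α := F) (by linear_combination -e)
  have e : ({0, 1, ω, ω + 1} : Finset F) = Finset.univ := by
    refine Finset.eq_univ_of_card _ ?_
    rw [h4, Finset.card_eq_four]
    exact ⟨0, 1, ω, ω + 1, zero_ne_one, Ne.symm hc.1, n1, Ne.symm hc.2, n2, n3, rfl⟩
  have : t ∈ ({0, 1, ω, ω + 1} : Finset F) := e ▸ Finset.mem_univ t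
  simpa using this

/-- Coordinates on `A` in which the spread is the set of lines. -/
theorem exists_coord (h : Hs J A B x y β) (h4 : 4 ≤ Nat.card F) (hJ : IsSylowOf 2 J ⊤)
    (hn : A.Normal) (hc : 𝒞(A) ≤ A) : ∃ v : G → Fin 2 → F,
      (∀ a ∈ A, ∀ a' ∈ A, v (a * a') = v a + v a') ∧ (∀ a ∈ A, v a = 0 → a = 1) ∧
      (∀ u, ∃ a ∈ A, v a = u) ∧
      (∀ s ∈ J, ∀ a ∈ A, v (s * a * s⁻¹) = v a + ![β s * v a 1, 0]) ∧
      ∀ g : G, ∀ a ∈ A, ∀ a' ∈ A, Dep (v a) (v a') → Dep (v (g * a * g⁻¹)) (v (g * a' * g⁻¹)) := by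
  classical
  obtain ⟨D, hD, hp, s1, s2⟩ := h.exists_spread h4 hJ hn hc
  have hDA : D ≤ A := hp.2.1
  have ex : ∀ a : G, ∃ z ∈ A ⊓ B, a ∈ A → z⁻¹ * a ∈ D := fun a => by
    by_cases ha : a ∈ A
    · obtain ⟨z, hz, d, hd, rfl⟩ := hp.2.2 a ha
      exact ⟨z, hz, fun _ => by simpa using hd⟩
    · exact ⟨1, one_mem _, fun n => absurd n ha⟩
  choose p hpZ hpD using ex
  have uniq : ∀ a ∈ A, ∀ z ∈ A ⊓ B, z⁻¹ * a ∈ D → p a = z := fun a ha z hz hd => by
    have : z⁻¹ * p a ∈ A ⊓ B ⊓ D := by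
      refine mem_inf.2 ⟨mul_mem (inv_mem hz) (hpZ a), ?_⟩
      have := D.mul_mem hd (D.inv_mem (hpD a ha))
      rwa [show z⁻¹ * a * ((p a)⁻¹ * a)⁻¹ = z⁻¹ * p a by group] at this
    rw [hD, mem_bot] at this
    exact (inv_mul_eq_one.1 this).symm
  have pmul : ∀ a ∈ A, ∀ a' ∈ A, p (a * a') = p a * p a' := fun a ha a' ha' => by
    refine uniq _ (mul_mem ha ha') _ (mul_mem (hpZ a) (hpZ a')) ?_
    have := D.mul_mem (hpD a ha) (hpD a' ha')
    rwa [show (p a)⁻¹ * a * ((p a')⁻¹ * a') = (p a * p a')⁻¹ * (a * a') by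
      rw [commA h (hpZ a).1 (hpZ a').1, mul_inv_rev, mul_assoc, mul_assoc, ← mul_assoc a,
        commA h ha (inv_mem (hpZ a').1), mul_assoc]] at this
  have pZ : ∀ z ∈ A ⊓ B, p z = z := fun z hz => uniq z hz.1 z hz (by simp)
  have pD : ∀ d ∈ D, p d = 1 := fun d hd => uniq d (hDA hd) 1 (one_mem _) (by simpa using hd)
  set v : G → Fin 2 → F := fun a => ![x (p a), y a] with hv
  have vmul : ∀ a ∈ A, ∀ a' ∈ A, v (a * a') = v a + v a' := fun a ha a' ha' => by
    ext i; fin_cases i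
    · simp [hv, pmul a ha a' ha', h.x_mul _ (hpZ a) _ (hpZ a')]
    · simp [hv, h.y_mul _ (h.two.A_le ha) _ (h.two.A_le ha')]
  have vzero : ∀ a ∈ A, v a = 0 → a = 1 := fun a ha e => by
    have hz : a ∈ A ⊓ B := ⟨ha, (h.y_zero a (h.two.A_le ha)).1 (congrFun e 1)⟩
    have e0 : x (p a) = 0 := congrFun e 0
    rw [pZ a hz] at e0
    exact h.x_zero a hz e0
  have vZ : ∀ z ∈ A ⊓ B, v z = ![x z, 0] := fun z hz => by
    simp only [hv, pZ z hz, (h.y_zero z (h.two.A_le hz.1)).2 hz.2]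
  have vinj : ∀ a ∈ A, ∀ a' ∈ A, v a = v a' → a = a' := fun a ha a' ha' e => by
    have := vzero _ (mul_mem ha ha') (by
      rw [vmul a ha a' ha', e]; ext i; exact h.add_self _)
    rw [← inv_eq_of_sq (h.sqA ha')]
    exact eq_inv_of_mul_eq_one_left this
  have vJ : ∀ s ∈ J, ∀ a ∈ A, v (s * a * s⁻¹) = v a + ![β s * v a 1, 0] := fun s hs a ha => by
    have haJ := h.two.A_le ha
    have hm := h.two.comm_mem hs haJ
    rw [show s * a * s⁻¹ = s * a * s⁻¹ * a⁻¹ * a by group, vmul _ hm.1 a ha, vZ _ hm,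
      h.comm s hs a haJ, (h.b_zero a haJ).2 ha, add_comm]
    simp [hv]
  have lineD : ∀ b ∈ B, ∀ a ∈ A, (a ∈ cj b D ↔ v a 0 = β b * v a 1) := fun b hb a ha => by
    have hbJ := h.two.B_le hb
    constructor
    · intro hm
      obtain ⟨d, hd, rfl⟩ := mem_cj'.1 hm
      rw [vJ b hbJ d (hDA hd)]
      simp [hv, pD d hd, h.x_one]
    · intro e
      have hd := hpD a ha
      rw [vinj a ha (b * ((p a)⁻¹ * a) * b⁻¹) (hn.conj_mem _ (hDA hd) b) ?_]
      · exact conj_mem_cj.2 hd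
      · rw [vJ b hbJ _ (hDA hd)]
        have ey : y ((p a)⁻¹ * a) = y a := by
          have hz := inv_mem (hpZ a)
          rw [h.y_mul _ (h.two.A_le hz.1) _ (h.two.A_le ha),
            (h.y_zero _ (h.two.A_le hz.1)).2 hz.2, zero_add]
        ext i; fin_cases i
        · simpa [hv, pD _ hd, h.x_one, ey] using e
        · simp [hv, ey]
  have lineZ : ∀ a ∈ A, (a ∈ A ⊓ B ↔ v a 1 = 0) := fun a ha => by
    rw [mem_inf, and_iff_right ha, ← h.y_zero a (h.two.A_le ha)]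
    rfl
  have dep : ∀ X : Subgroup G, X ≤ A → (X = A ⊓ B ∨ ∃ b ∈ B, X = cj b D) → ∀ a ∈ X, ∀ a' ∈ X,
      Dep (v a) (v a') := by
    rintro X hX (rfl | ⟨b, hb, rfl⟩) a ha a' ha'
    · rw [Dep, (lineZ a (hX ha)).1 ha, (lineZ a' (hX ha')).1 ha']; ring
    · rw [Dep, (lineD b hb a (hX ha)).1 ha, (lineD b hb a' (hX ha')).1 ha']; ring
  have nA : ∀ g : G, g ∈ 𝒩(A) := fun g => normal_iff_top_le_norm.1 hn (mem_top g)
  refine ⟨v, vmul, vzero, fun u => ?_, vJ, fun g a ha a' ha' hd => ?_⟩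
  · obtain ⟨a, ha, e⟩ := h.y_surj (u 1)
    obtain ⟨z, hz, e'⟩ := h.x_surj (u 0 - v a 0)
    refine ⟨z * a, mul_mem hz.1 ha, ?_⟩
    rw [vmul z hz.1 a ha, vZ z hz, e']
    ext i; fin_cases i
    · simp
    · simp [hv, e]
  · by_cases hz : v a 1 = 0 ∧ v a' 1 = 0
    · exact dep _ (cj_le_of_mem_norm inf_le_left (nA g)) (s2 g) _
        (conj_mem_cj.2 ((lineZ a ha).2 hz.1)) _ (conj_mem_cj.2 ((lineZ a' ha').2 hz.2))
    · have : ∃ t : F, v a 0 = t * v a 1 ∧ v a' 0 = t * v a' 1 := by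
        rw [Dep] at hd
        rcases not_and_or.1 hz with n | n
        · exact ⟨v a 0 / v a 1, by field_simp, by field_simp; linear_combination -hd⟩
        · exact ⟨v a' 0 / v a' 1, by field_simp; linear_combination hd, by field_simp⟩
      obtain ⟨t, e, e'⟩ := this
      obtain ⟨b, hb, rfl⟩ := h.b_surj t
      refine dep (cj g (cj b D)) (cj_le_of_mem_norm (cj_le_of_mem_norm hDA (nA b)) (nA g))
        (by rw [← cj_mul]; exact s1 _) _ (conj_mem_cj.2 ((lineD b hb a ha).2 e)) _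
        (conj_mem_cj.2 ((lineD b hb a' ha').2 e'))

end LAff

/-- For `q = 4` the action on `A` is linear. -/
theorem Hs.exists_linear {F : Type v} [Field F] [Fintype F] {x y β : G → F} (h : Hs J A B x y β)
    (h4 : Fintype.card F = 4) (hJ : IsSylowOf 2 J ⊤) (hn : A.Normal) (hc : 𝒞(A) ≤ A) :
    ∃ (v : G → Fin 2 → F) (m : G →* GL (Fin 2) F), (∀ a ∈ A, ∀ a' ∈ A, v (a * a') = v a + v a') ∧
      (∀ a ∈ A, v a = 0 → a = 1) ∧
      ∀ g : G, ∀ a ∈ A, v (g * a * g⁻¹) = Matrix.mulVec (m g : Matrix (Fin 2) (Fin 2) F) (v a) := by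
  classical
  obtain ⟨v, vmul, vzero, vsurj, vJ, vdep⟩ := LAff.exists_coord h
    (by rw [Nat.card_eq_fintype_card, h4]) hJ hn hc
  choose σ hσA hσ using vsurj
  have vinj : ∀ a ∈ A, ∀ a' ∈ A, v a = v a' → a = a' := fun a ha a' ha' e => by
    have := vzero _ (mul_mem ha ha') (by
      rw [vmul a ha a' ha', e]; ext i; exact h.add_self _)
    rw [← inv_eq_of_sq (h.sqA ha')]
    exact eq_inv_of_mul_eq_one_left this
  set ψ : G → (Fin 2 → F) → Fin 2 → F := fun g u => v (g * σ u * g⁻¹) with hψ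
  have ψv : ∀ g, ∀ a ∈ A, ψ g (v a) = v (g * a * g⁻¹) := fun g a ha => by
    simp only [hψ]
    rw [vinj _ (hσA _) a ha (hσ _)]
  have ψadd : ∀ g u u', ψ g (u + u') = ψ g u + ψ g u' := fun g u u' => by
    conv_lhs => rw [← hσ u, ← hσ u', ← vmul _ (hσA u) _ (hσA u'), ψv g _ (mul_mem (hσA u) (hσA u'))]
    rw [← vmul _ (hn.conj_mem _ (hσA u) g) _ (hn.conj_mem _ (hσA u') g)]
    congr 1; group
  have ψmul : ∀ g g' u, ψ (g * g') u = ψ g (ψ g' u) := fun g g' u => by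
    rw [show ψ g' u = v (g' * σ u * g'⁻¹) from rfl, ψv g _ (hn.conj_mem _ (hσA u) g')]
    simp only [hψ]
    congr 1; group
  have ψone : ∀ u, ψ 1 u = u := fun u => by simp [hψ, hσ]
  have ψinv : ∀ g u, ψ g⁻¹ (ψ g u) = u := fun g u => by rw [← ψmul, inv_mul_cancel, ψone]
  have ψinv' : ∀ g u, ψ g (ψ g⁻¹ u) = u := fun g u => by rw [← ψmul, mul_inv_cancel, ψone]
  have ψdep : ∀ g u u', LAff.Dep u u' → LAff.Dep (ψ g u) (ψ g u') := fun g u u' hd =>
    vdep g _ (hσA u) _ (hσA u') (by rwa [hσ, hσ])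
  have ψzero : ∀ g, ψ g 0 = 0 := fun g => by
    have := ψadd g 0 0
    rw [add_zero] at this
    exact left_eq_add.1 this
  obtain ⟨ω, w0, w1, hω⟩ := LAff.four h4 h.add_self
  have alt : ∀ g, (∀ u, ψ g (ω • u) = ω • ψ g u) ∨ ∀ u, ψ g (ω • u) = (ω + 1) • ψ g u := by
    intro g
    obtain ⟨c, hc⟩ := LAff.scalar (ψadd g) (ψinv g) (ψdep g) (ψdep g⁻¹) ω
    have e := hc ![1, 0]
    rcases hω c with rfl | rfl | rfl | rfl
    · rw [zero_smul, ← ψzero g] at e
      have := congrFun (congrArg (ψ g⁻¹) e) 0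
      rw [ψinv, ψinv] at this
      exact absurd (by simpa using this) w0
    · rw [one_smul] at e
      have := congrFun (congrArg (ψ g⁻¹) e) 0
      rw [ψinv, ψinv] at this
      exact absurd (by simpa using this) w1
    · exact Or.inl hc
    · exact Or.inr hc
  let K : Subgroup G :=
    { carrier := {g | ∀ u, ψ g (ω • u) = ω • ψ g u}
      one_mem' := fun u => by rw [ψone, ψone]
      mul_mem' := fun {g g'} hg hg' u => by rw [ψmul, ψmul, hg', hg]
      inv_mem' := fun {g} hg u => by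
        conv_lhs => rw [← ψinv' g u, ← hg, ψinv] }
  have hJK : J ≤ K := fun s hs u => by
    simp only [hψ]
    rw [vJ s hs _ (hσA _), vJ s hs _ (hσA _), hσ, hσ]
    rw [smul_add]
    congr 1
    ext i; fin_cases i
    · simp; ring
    · simp
  have hidx : K.index ∣ 2 := by
    by_cases hK : ∀ g, g ∈ K
    · exact index_dvd_two_iff.2 ⟨1, fun b => Or.inr (hK b)⟩
    · push Not at hK
      obtain ⟨a, ha⟩ := hK
      refine index_dvd_two_iff.2 ⟨a, fun b => ?_⟩
      rcases alt b with e | e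
      · exact Or.inr e
      · refine Or.inl fun u => ?_
        rw [ψmul, ψmul, (alt a).resolve_left ha, add_smul, one_smul, ψadd, e, add_smul, one_smul,
          add_assoc]
        ext i
        simp only [Pi.add_apply, h.add_self, add_zero]
  have hK : ∀ g, g ∈ K := fun g => by
    have hp := hJ.isProd_of_index (K := K) le_top (by
      rw [relIndex_top_right]
      exact ((isPiNat_prime Nat.prime_two).2 (Set.mem_singleton 2)).of_dvd hidx)
    obtain ⟨j, hj, k, hk, rfl⟩ := hp.2.2 g (mem_top g)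
    exact mul_mem (hJK hj) hk
  have ψsmul : ∀ g (c : F) u, ψ g (c • u) = c • ψ g u := fun g c u => by
    rcases hω c with rfl | rfl | rfl | rfl
    · rw [zero_smul, zero_smul, ψzero]
    · rw [one_smul, one_smul]
    · exact hK g u
    · rw [add_smul, add_smul, one_smul, one_smul, ψadd, hK g u]
  let l : G → (Fin 2 → F) →ₗ[F] Fin 2 → F := fun g =>
    { toFun := ψ g, map_add' := ψadd g, map_smul' := ψsmul g }
  let m : G →* Matrix (Fin 2) (Fin 2) F :=
    { toFun := fun g => LinearMap.toMatrix' (l g)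
      map_one' := by
        rw [← LinearMap.toMatrix'_id]
        congr 1
        exact LinearMap.ext ψone
      map_mul' := fun g g' => by
        rw [← LinearMap.toMatrix'_comp]
        congr 1
        exact LinearMap.ext (ψmul g g') }
  refine ⟨v, m.toHomUnits, vmul, vzero, fun g a ha => ?_⟩
  rw [← ψv g a ha]
  exact (LinearMap.toMatrix'_mulVec (l g) (v a)).symm

theorem Hs.embed_of_normal {F : Type v} [Field F] [Fintype F] {x y β : G → F} (h : Hs J A B x y β)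
    (h4 : Fintype.card F = 4) (hJ : IsSylowOf 2 J ⊤) (hn : A.Normal) (hc : 𝒞(A) ≤ A) :
    ∃ f : G →* GL (Fin 3) F ⧸ Subgroup.center (GL (Fin 3) F), Function.Injective f := by
  haveI : Fact (Nat.Prime 2) := ⟨Nat.prime_two⟩
  haveI := h.two.eaA.1
  obtain ⟨v, m, vmul, vzero, vm⟩ := h.exists_linear h4 hJ hn hc
  obtain ⟨B1, hB1, hb, hb'⟩ := H50.exists_compl_of_elem (p := 2) (U := A ⊓ B) h.two.eaB inf_le_right
  obtain ⟨H, hH⟩ := H2.gaschutz_exists A J h.two.A_le (by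
      have h1 := hJ.index
      rw [relIndex_top_right] at h1
      exact IsPiNat.coprime (hJ.pi.of_le h.two.A_le) h1) B1 (hB1.trans h.two.B_le)
    (by rw [eq_bot_iff, ← hb]; exact le_inf (le_inf inf_le_right (inf_le_left.trans hB1)) inf_le_left)
    (by
      rw [← h.two.sup]
      refine le_antisymm (sup_le_sup_left hB1 _) (sup_le le_sup_left ?_)
      conv_lhs => rw [← hb']
      exact sup_le_sup_right inf_le_left _)
  obtain ⟨η, -, η2, η3⟩ := H2.exists_crossed_hom A ⊤ H le_top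
    (by rw [inf_comm]; exact hH.disjoint.eq_bot) hH.sup_eq_top.ge
  have ηA : ∀ a ∈ A, ∀ ha : a ∈ A, η a = ⟨a, ha⟩ := fun a _ ha =>
    η2 a (mem_top a) ⟨a, ha⟩ (by simp)
  have v1 : v 1 = 0 := by
    have := vmul 1 (one_mem _) 1 (one_mem _)
    rw [one_mul] at this
    exact left_eq_add.1 this
  have vη : ∀ g g' : G, v (η (g * g')) = v (η g) + Matrix.mulVec (m g : Matrix (Fin 2) (Fin 2) F)
      (v (η g')) := fun g g' => by
    rw [η3 g (mem_top _) g' (mem_top _), coe_mul, vmul _ (η g).2 _ (MulAut.conjNormal g (η g')).2,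
      MulAut.conjNormal_apply, vm g _ (η g').2]
  let N : G →* Matrix (Fin 3) (Fin 3) F :=
    { toFun := fun g => !![m g 0 0, m g 0 1, v (η g) 0; m g 1 0, m g 1 1, v (η g) 1; 0, 0, 1]
      map_one' := by
        rw [ηA 1 (one_mem _) (one_mem _), map_one]
        ext i j; fin_cases i <;> fin_cases j <;> simp [v1]
      map_mul' := fun g g' => by
        rw [vη, map_mul]
        ext i j; fin_cases i <;> fin_cases j <;>
          simp [Matrix.mul_apply, Fin.sum_univ_three, Matrix.mulVec, dotProduct] <;> ring }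
  refine ⟨(QuotientGroup.mk' _).comp N.toHomUnits, (injective_iff_map_eq_one _).2 fun g hg => ?_⟩
  rw [MonoidHom.comp_apply, QuotientGroup.mk'_apply, QuotientGroup.eq_one_iff,
    Matrix.GeneralLinearGroup.mem_center_iff_val_mem_range_scalar] at hg
  obtain ⟨c, hc'⟩ := hg
  have ent : ∀ i j, Matrix.scalar (Fin 3) c i j = N g i j := fun i j => by rw [hc']; rfl
  have c1 : c = 1 := by simpa [N] using ent 2 2
  subst c1
  have m1 : (m g : Matrix (Fin 2) (Fin 2) F) = 1 := by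
    ext i j; fin_cases i <;> fin_cases j
    · simpa [N] using (ent 0 0).symm
    · simpa [N] using (ent 0 1).symm
    · simpa [N] using (ent 1 0).symm
    · simpa [N] using (ent 1 1).symm
  have gA : g ∈ A := hc fun a ha => by
    have e := vm g a ha
    rw [m1, Matrix.one_mulVec] at e
    have := vzero _ (mul_mem (hn.conj_mem a ha g) ha) (by
      rw [vmul _ (hn.conj_mem a ha g) a ha, e]; ext i; exact h.add_self _)
    calc a * g = g * a * g⁻¹ * a * (a * g) := by rw [this, one_mul]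
      _ = g * a * g⁻¹ * (a * a) * g := by group
      _ = g * a := by rw [h.sqA ha]; group
  refine vzero g gA ?_
  have e : v (η g) = 0 := by
    ext i; fin_cases i
    · simpa [N] using (ent 0 2).symm
    · simpa [N] using (ent 1 2).symm
  rwa [ηA g gA gA] at e

end Cfsg.Agent.J3
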