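import Cfsg.Agent.J3.Basic

/-! The modules are self-centralizing (see notes/J3.md). -/

set_option autoImplicit false
set_option linter.unusedSectionVars false

namespace Cfsg.Agent.J3

open Cfsg Cfsg.Agent.H49 Cfsg.Agent.GOLD Cfsg.Agent.R2 Subgroup

universe u v

variable {G : Type u} [Group G] [Finite G] {F : Type v} [Field F] [Finite F]
  {L M J A B : Subgroup G} {x y β : G → F}

/-- The barycenter of an orbit of odd length in a coset of an elementary abelian 2-group. -/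
theorem bary (hJ : IsSylowOf 2 J L) (hA : EA A) (hn : L ≤ 𝒩(A)) {c : G} (hc : c ∈ 𝒞(J))
    (h : ∀ l ∈ L, c⁻¹ * (l * c * l⁻¹) ∈ A) : ∃ a ∈ A, c * a ∈ 𝒞(L) := by
  classical
  let K := 𝒞[c].subgroupOf L
  have := Fintype.ofFinite (L ⧸ K)
  let : CommGroup A := { (inferInstance : Group A) with mul_comm := hA.1.is_comm.comm }
  let f : L ⧸ K → A := fun w => ⟨c⁻¹ * (w.out * c * (w.out : G)⁻¹), h _ w.out.2⟩
  refine ⟨(∏ w, f w : A), (∏ w, f w).2, fun l hl => ?_⟩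
  let φ : A →* A := MonoidHom.mk' (fun a => ⟨l * a * l⁻¹, conj_mem_of_norm hn hl a.2⟩)
    fun a b => Subtype.ext (by simp)
  let γ : A := ⟨c⁻¹ * (l * c * l⁻¹), h l hl⟩
  have key : ∀ w, f ((⟨l, hl⟩ : L) • w) = γ * φ (f w) := fun w => by
    obtain ⟨k, hk⟩ := QuotientGroup.mk_out_eq_mul K ((⟨l, hl⟩ : L) * w.out)
    have e : ((⟨l, hl⟩ : L) • w).out = ⟨l, hl⟩ * w.out * k := by
      rw [← hk, ← smul_eq_mul, MulAction.Quotient.mk_smul_out]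
    have hk2 : ((k : L) : G) * c = c * (k : L) := mem_cent1.1 k.2
    refine Subtype.ext ?_
    show c⁻¹ * (((⟨l, hl⟩ : L) • w).out * c * ((((⟨l, hl⟩ : L) • w).out : L) : G)⁻¹) =
      c⁻¹ * (l * c * l⁻¹) * (l * (c⁻¹ * (w.out * c * (w.out : G)⁻¹)) * l⁻¹)
    rw [e]
    push_cast
    rw [mul_assoc (l * _), hk2]
    group
  have hodd : Odd (Fintype.card (L ⧸ K)) := by
    rw [← Nat.card_eq_fintype_card, ← Nat.not_even_iff_odd, even_iff_two_dvd]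
    exact fun hd => ((sylowOf_iff Nat.prime_two).1 hJ).2.2
      (hd.trans (relIndex_dvd_of_le_left L (le_cent1_iff.2 hc)))
  have e1 : ∏ w, f w = γ * φ (∏ w, f w) := by
    conv_lhs => rw [← Equiv.prod_comp (MulAction.toPerm (⟨l, hl⟩ : L)) f]
    simp only [MulAction.toPerm_apply, key, Finset.prod_mul_distrib, Finset.prod_const,
      Finset.card_univ, map_prod]
    obtain ⟨k, hk⟩ := hodd
    have : γ ^ 2 = 1 := Subtype.ext (hA.2 _ γ.2)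
    rw [hk, pow_succ, pow_mul, this, one_pow, one_mul]
  have e2 := congrArg Subtype.val e1
  generalize (∏ w, f w : A) = a at e2 ⊢
  change (a : G) = c⁻¹ * (l * c * l⁻¹) * (l * a * l⁻¹) at e2
  calc l * (c * a) = c * (c⁻¹ * (l * c * l⁻¹) * (l * a * l⁻¹)) * l := by group
    _ = _ := by rw [← e2]

theorem Pre.centJ (h : Pre L M J A B x y β) {c : G} (hc : c ∈ 𝒞(J)) :
    ∃ z ∈ A ⊓ B, c * z ∈ 𝒞(L) := by
  have hcA : c ∈ 𝒞(A) := cent_anti h.hs.two.A_le hc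
  have hcL : c ∈ 𝒩(L) := h.sA.nL ▸ cent_le_norm A hcA
  obtain ⟨a, ha, e⟩ := bary h.sA.syl h.hs.two.eaA h.L_norm hc fun l hl => h.inf_cent (mem_inf.2
    ⟨by simpa only [mul_assoc] using mul_mem (conj_mem_of_norm' le_rfl hcL hl) (inv_mem hl),
      mul_mem (inv_mem hcA) (conj_mem_of_norm (norm_cent h.L_norm) hl hcA)⟩)
  refine ⟨a, ?_, e⟩
  rw [← h.hs.cent_J]
  exact ⟨h.hs.two.A_le ha, (mul_mem_cancel_left hc).1 (cent_anti h.J_le e)⟩

theorem Pre.eq_one (h : Pre L M J A B x y β) {z : G} (hz : z ∈ A ⊓ B) (hc : z ∈ 𝒞(L)) : z = 1 := by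
  by_contra n
  obtain ⟨l, hl, hJ⟩ := h.mv
  exact hJ (le_normalizer (h.sA.stab z hz n l hl (hc l hl)))

theorem Pre.cent_le (h : Pre L M J A B x y β) : 𝒞(M) ≤ 𝒞(L) := fun d hd => by
  obtain ⟨z, hz, e⟩ := h.centJ (cent_anti h.symm.J_le hd)
  obtain ⟨w, hw, w', hw', h1, h1', n⟩ := h.exists_two
  obtain ⟨k, ⟨hk, hkJ⟩, ek⟩ := h.tr hw h1 hw' h1'
  have hkM : k ∈ 𝒩(M) := h.sB.nL ▸ h.hs.norm_B hkJ (h.L_norm hk)
  have e1 : k * z * k⁻¹ * z⁻¹ = (k * d * k⁻¹)⁻¹ * d := by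
    calc _ = (k * d * k⁻¹)⁻¹ * (k * (d * z)) * k⁻¹ * z⁻¹ := by group
      _ = _ := by rw [e k hk]; group
  have e2 : k * z * k⁻¹ * z⁻¹ = 1 := h.symm.eq_one
    (inf_comm A B ▸ mul_mem (conj_mem_of_norm h.hs.normJ_Z hkJ hz) (inv_mem hz))
    (e1 ▸ mul_mem (inv_mem (conj_mem_of_norm (norm_cent le_rfl) hkM hd)) hd)
  by_cases hz1 : z = 1
  · simpa [hz1] using e
  · have : k ∈ J := h.sA.stab z hz hz1 k hk (by
      calc k * z = k * z * k⁻¹ * z⁻¹ * (z * k) := by group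
        _ = _ := by rw [e2, one_mul])
    exact absurd (by rw [← ek, h.hs.two.comm_of_Z hw this]; group) n

theorem Pre.cent_T (h : Pre L M J A B x y β) {T : Subgroup G} (h2 : IsPGroup 2 T) (hJ : J ≤ T)
    (hT : T ≤ 𝒩(L)) (hO : pCoreOf 2 (T ⊔ L ⊔ M) = ⊥) : T ⊓ 𝒞(J) ≤ A ⊓ B := fun c hc => by
  obtain ⟨z, hz, e⟩ := h.centJ hc.2
  have hD : T ⊓ 𝒞(L) ≤ ⊥ := hO ▸ H72.le_pCoreOf (h2.to_le inf_le_left)
    (inf_le_left.trans (le_sup_left.trans le_sup_left))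
    (sup_le (sup_le (norm_inf le_normalizer (norm_cent hT)) (norm_of_cent (cent_symm inf_le_right)))
      (norm_of_cent (cent_symm (inf_le_right.trans h.symm.cent_le))))
  have := mem_bot.1 (hD ⟨mul_mem hc.1 (hJ (h.hs.two.A_le hz.1)), e⟩)
  rw [eq_inv_of_mul_eq_one_left this]
  exact inv_mem hz

theorem Pre.inf_eq (h : Pre L M J A B x y β) {T : Subgroup G} (h2 : IsPi {2} T) (hJ : J ≤ T) :
    T ⊓ L = J :=
  (h.sA.syl.eq_of_le (le_inf hJ h.J_le) inf_le_right (h2.of_le inf_le_left)).symm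

theorem Pre.T_norm (h : Pre L M J A B x y β) {T : Subgroup G} (h2 : IsPi {2} T) (hJ : J ≤ T)
    (hT : T ≤ 𝒩(A)) : T ≤ 𝒩(B) := fun t ht => h.hs.norm_B (by
  rw [← h.inf_eq h2 hJ]
  exact norm_inf le_normalizer (h.sA.nL ▸ hT) ht) (hT ht)

theorem Pre.cent_A (h : Pre L M J A B x y β) (hG : IsCharacteristicTwoType G) {T : Subgroup G}
    (hT : IsSylowOf 2 T 𝒩(A)) (hJ : J ≤ T) (hc : T ⊓ 𝒞(J) ≤ A ⊓ B) : 𝒞(A) ≤ A := by
  have hA2 : IsPGroup 2 A := h.hs.two.pgroup.to_le h.hs.two.A_le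
  have hA0 : A ≠ ⊥ := ne_bot_mono inf_le_left h.hs.two.Z_ne
  have hQ2 := H72.isPGroup_pCoreOf 2 𝒩(A)
  have hQn := H72.le_normalizer_pCoreOf (p := 2) 𝒩(A)
  have hQle := H72.pCoreOf_le (p := 2) 𝒩(A)
  have hch : H72.CharPIn 2 𝒩(A) := (H72.charPIn_iff _).2 (hG.2 A hA2 hA0)
  have hAQ : A ≤ pCoreOf 2 𝒩(A) := H72.le_pCoreOf hA2 le_normalizer le_rfl
  rw [H72.CharPIn] at hch
  generalize pCoreOf 2 𝒩(A) = Q at hQ2 hQn hQle hAQ hch
  have hQT : Q ≤ T := hT.le_of_norm hQle (isPi_of_isPGroup Nat.prime_two hQ2) (Or.inr (hT.le.trans hQn))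
  have hTB := h.T_norm hT.pi hJ hT.le
  have hQc : A ≤ 𝒞(Q) := fun a ha => by
    obtain ⟨a₀, ha₀, n⟩ := ne_bot_iff_exists.1
      (inf_center_ne_bot_of_nilpotent hQ2.isNilpotent hAQ hQle hA0)
    by_cases h1 : a = 1
    · rw [h1]; exact one_mem _
    obtain ⟨l, hl, rfl⟩ := h.sA.trA a₀ ha₀.1 n a ha h1
    exact conj_mem_of_norm (norm_cent (h.L_norm.trans hQn)) hl ha₀.2
  have hQA : Q ≤ A := fun u hu => by
    have huA : u ∈ 𝒞(A) := cent_symm hQc hu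
    obtain ⟨a, ha, e⟩ := h.symm.stabC (hTB (hQT hu)) (cent_anti inf_le_right huA) fun b hb => by
      have hbL := h.J_le (h.hs.two.B_le hb)
      refine h.inf_cent (mem_inf.2
        ⟨mul_mem (conj_mem_of_norm le_rfl (h.sA.nL ▸ hQle hu) hbL) (inv_mem hbL), ?_⟩)
      simpa only [mul_assoc] using
        mul_mem huA (conj_mem_of_norm (norm_cent h.L_norm) hbL (inv_mem huA))
    have : u * a ∈ A ⊓ B := hc ⟨mul_mem (hQT hu) (hJ (h.hs.two.A_le ha)), by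
      rw [← h.hs.two.sup, cent_sup]
      exact ⟨mul_mem huA (abelian_iff.1 h.hs.two.eaA.1 ha), e⟩⟩
    exact (mul_mem_cancel_right ha).1 this.1
  exact fun c hc => hQA (hch ⟨cent_le_norm A hc, cent_anti hQA hc⟩)

theorem Pre.cf (h : Pre L M J A B x y β) (hG : IsCharacteristicTwoType G) {T : Subgroup G}
    (hT : IsSylowOf 2 T 𝒩(L)) (hO : pCoreOf 2 (T ⊔ L ⊔ M) = ⊥) : Cf L M J A B x y β := by
  obtain ⟨l, hl, e⟩ := sylowOf_conj (hT.inf_normal le_normalizer le_rfl) h.sA.syl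
  have hT' : IsSylowOf 2 (cj l T) 𝒩(A) := h.sA.nL ▸ hT.cj_of_mem (le_normalizer hl)
  have hJ : J ≤ cj l T := e ▸ cj_mono l inf_le_left
  have e2 : cj l T ⊔ L = T ⊔ L := le_antisymm
    (sup_le (cj_le_of_mem le_sup_left (mem_sup_right hl)) le_sup_right)
    (sup_le ((cj_le_iff_of_mem (mem_sup_right hl)).1 le_sup_left) le_sup_right)
  rw [← e2] at hO
  generalize cj l T = R at hT' hJ hO
  have hc := h.cent_T (hT'.pi.isPGroup Nat.prime_two) hJ (h.sA.nL ▸ hT'.le) hO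
  obtain ⟨R', hR', hle⟩ := exists_sylowOf_ge hT'.pi (h.T_norm hT'.pi hJ hT'.le)
  obtain rfl := hT'.eq_of_le hle (h.symm.T_norm hR'.pi (hJ.trans hle) hR'.le) hR'.pi
  exact ⟨h, h.cent_A hG hT' hJ hc, h.symm.cent_A hG hR' hJ (inf_comm A B ▸ hc)⟩

end Cfsg.Agent.J3
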